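import Groth.Agent.Lib.GenSub.Basic
import Groth.Agent.Lib.GrpQ.AntiAffSmooth

/-!
# The Zariski closure of a group of rational points

With its reduced structure it is a smooth closed subgroup.
-/

set_option autoImplicit false

universe u

open CategoryTheory Limits MonoidalCategory CartesianMonoidalCategory MonObj AlgebraicGeometry

namespace Groth.Agent.Lib.PtClosure98.Basic

open Groth.Agent.Lib Groth.Agent

variable {k : Type u} [Field k]

theorem smooth_closed {L : Type u} [Field L] [IsAlgClosed L] (G : Over (Spec (CommRingCat.of L)))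
    [GrpObj G] [LocallyOfFiniteType G.hom] [IsReduced G.left] : Smooth G.hom := by
  let : GrpObj (Over.mk G.hom) := ‹GrpObj G›
  exact H1.Classical.Smooth.smooth_of_isReduced G.hom

/-- A geometrically reduced group locally of finite type over a field is smooth. -/
theorem smooth_of_geometricallyReduced (G : Over (Spec (CommRingCat.of k))) [GrpObj G]
    [LocallyOfFiniteType G.hom] [QuasiCompact G.hom] [GeometricallyReduced G.hom] : Smooth G.hom := by
  let K := AlgebraicClosure k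
  let b := GrpSch.extBase k K
  let G' := Red.bc b G
  have : LocallyOfFiniteType G'.hom := GrpSch.bc_hom_of (P := @LocallyOfFiniteType) b G ‹_›
  have : QuasiCompact G'.hom := GrpSch.bc_hom_of (P := @QuasiCompact) b G ‹_›
  have : IsReduced G'.left :=
    GeometricallyReduced.geometrically_isReduced (f := G.hom) b _ _ (IsPullback.of_hasPullback G.hom b)
  exact GrpSch.of_bc_hom k K (P := @Smooth) G
    (smooth_closed G')

variable (G : Over (Spec (CommRingCat.of k))) [GrpObj G]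
  (S : Subgroup (𝟙_ (Over (Spec (CommRingCat.of k))) ⟶ G))

theorem pt_subsingleton : Subsingleton ↥(𝟙_ (Over (Spec (CommRingCat.of k)))).left :=
  inferInstanceAs (Subsingleton (PrimeSpectrum k))

/-- The closure of a group of rational points is a closed smooth subgroup. -/
theorem exists_closure [LocallyOfFiniteType G.hom] [QuasiCompact G.hom] :
    ∃ (H : Over (Spec (CommRingCat.of k))) (_ : GrpObj H) (i : H ⟶ G), IsMonHom i ∧
      IsClosedImmersion i.left ∧ Smooth H.hom ∧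
      Set.range i.left.base = closure
        ((fun s : (𝟙_ (Over (Spec (CommRingCat.of k))) ⟶ G) =>
          s.left.base (IsLocalRing.closedPoint k)) '' (S : Set _)) := by
  let P : Set G.left := (fun s : (𝟙_ (Over (Spec (CommRingCat.of k))) ⟶ G) =>
          s.left.base (IsLocalRing.closedPoint k)) '' (S : Set _)
  let I := Scheme.IdealSheafData.vanishingIdeal (TopologicalSpace.Closeds.closure P)
  let Γ : Over (Spec (CommRingCat.of k)) := Over.mk (I.subschemeι ≫ G.hom)
  let i : Γ ⟶ G := Over.homMk I.subschemeι rfl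
  have hic : IsClosedImmersion i.left := inferInstanceAs (IsClosedImmersion I.subschemeι)
  have hir : Set.range i.left = closure P := by
    show Set.range I.subschemeι = _
    rw [Scheme.IdealSheafData.range_subschemeι, Scheme.IdealSheafData.coe_support_vanishingIdeal]
    rfl
  have : IsReduced Γ.left := H75.RedSub.isReduced_vanishingIdeal _
  have : LocallyOfFiniteType Γ.hom := inferInstanceAs (LocallyOfFiniteType (i.left ≫ G.hom))
  have : QuasiCompact Γ.hom := inferInstanceAs (QuasiCompact (i.left ≫ G.hom))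
  have : Mono i := (Over.forget _).mono_of_mono_map (show Mono i.left from inferInstance)
  have lift : ∀ {T : Over (Spec (CommRingCat.of k))} (q : T ⟶ G), IsReduced T.left →
      Set.range q.left ⊆ closure P → ∃ l : T ⟶ Γ, l ≫ i = q := by
    intro T q _ hq
    obtain ⟨l, hl⟩ := H75.RedKer.exists_lift q.left i.left (hq.trans hir.ge)
    exact ⟨Over.homMk l (by rw [← Over.w i, ← Category.assoc, hl, Over.w q]), Over.OverMorphism.ext hl⟩
  have hone : GeometricallyReduced (𝟙_ (Over (Spec (CommRingCat.of k)))).hom :=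
    (GenSub.good_one (G := G) η[G]).1
  have hmem : ∀ s ∈ S, ∀ w, s.left w ∈ P := fun s hs w =>
    ⟨s, hs, congrArg s.left.base ((pt_subsingleton (k := k)).elim _ _)⟩
  have fac : ∀ s ∈ S, ∃ l : 𝟙_ _ ⟶ Γ, l ≫ i = s := fun s hs =>
    lift s (GenSub.isReduced_left _) (by rintro _ ⟨w, rfl⟩; exact subset_closure (hmem s hs w))
  have dense : ∀ O : Γ.left.Opens, (O : Set Γ.left).Nonempty →
      ∃ c : 𝟙_ _ ⟶ Γ, c ≫ i ∈ S ∧ ∃ w, c.left w ∈ O := by
    intro O ⟨x, hx⟩
    obtain ⟨O', hO', hOO'⟩ := i.left.isClosedEmbedding.isInducing.isOpen_iff.1 O.2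
    have hx' : i.left x ∈ closure P := hir.le ⟨x, rfl⟩
    obtain ⟨p, hpO, s, hs, rfl⟩ := mem_closure_iff.1 hx' O' hO' (hOO'.ge hx)
    obtain ⟨l, rfl⟩ := fac s hs
    exact ⟨l, hs, IsLocalRing.closedPoint k, hOO'.le (by
      rw [Set.mem_preimage, ← Scheme.Hom.comp_apply]; exact hpO)⟩
  have hgr : GeometricallyReduced Γ.hom := GenSub.geometricallyReduced_of_dense Γ fun O hO => by
    obtain ⟨c, _, hw⟩ := dense O hO
    exact ⟨_, c, hone, hw⟩
  have : IsReduced (Γ ⊗ Γ).left := H52.FBase.ReducedProd.isReduced_pullback Γ.hom Γ.hom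
  obtain ⟨mul, hmul⟩ := lift ((i ⊗ₘ i) ≫ μ[G]) ‹_› (by
    rintro _ ⟨z, rfl⟩
    refine mem_closure_iff.2 fun O hO hzO => ?_
    let O₂ : (Γ ⊗ Γ).left.Opens :=
      ⟨((i ⊗ₘ i) ≫ μ[G]).left ⁻¹' O, hO.preimage ((i ⊗ₘ i) ≫ μ[G]).left.continuous⟩
    have : UniversallyOpen (fst Γ Γ).left := GrpSch.fst_left_of (P := @UniversallyOpen) Γ inferInstance
    obtain ⟨c, hc, w, ⟨z', hz', hwz⟩⟩ := dense ⟨(fst Γ Γ).left '' O₂, (fst Γ Γ).left.isOpenMap _ O₂.2⟩
      ⟨_, z, hzO, rfl⟩
    obtain ⟨z'', hz'', -⟩ := Scheme.exists_preimage_of_isPullback (GrpSch.isPullback_whiskerRight c Γ) z' w hwz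
    let W := 𝟙_ (Over (Spec (CommRingCat.of k)))
    have : UniversallyOpen (snd W Γ).left := GrpSch.snd_left_of (P := @UniversallyOpen) Γ inferInstance
    let O₃ : (W ⊗ Γ).left.Opens := (c ▷ Γ).left ⁻¹ᵁ O₂
    obtain ⟨c', hc', w', ⟨y, hy, hwy⟩⟩ := dense ⟨(snd W Γ).left '' O₃, (snd W Γ).left.isOpenMap _ O₃.2⟩
      ⟨_, z'', (show (c ▷ Γ).left z'' ∈ O₂ by rw [hz'']; exact hz'), rfl⟩
    obtain ⟨v, hv, -⟩ := Scheme.exists_preimage_of_isPullback (GrpSch.isPullback_whiskerLeft W c') y w' hwy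
    refine ⟨(((c ≫ i) ⊗ₘ (c' ≫ i)) ≫ μ[G]).left v, ?_, ?_⟩
    · have e : ((c ≫ i) ⊗ₘ (c' ≫ i)) ≫ μ[G] = (W ◁ c') ≫ (c ▷ Γ) ≫ (i ⊗ₘ i) ≫ μ[G] := by
        rw [← tensorHom_comp_tensorHom, tensorHom_def', Category.assoc, Category.assoc]
      rw [e, Over.comp_left, Over.comp_left, Scheme.Hom.comp_apply, Scheme.Hom.comp_apply, hv]
      exact hy
    · have e : ((c ≫ i) ⊗ₘ (c' ≫ i)) ≫ μ[G] = toUnit (W ⊗ W) ≫ ((c ≫ i) * (c' ≫ i)) := by
        rw [MonObj.comp_mul, Hom.mul_def, ← lift_fst_comp_snd_comp,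
          toUnit_unique (fst W W) (toUnit _), toUnit_unique (snd W W) (toUnit _)]
      rw [e, Over.comp_left, Scheme.Hom.comp_apply]
      exact hmem _ (S.mul_mem hc hc') _)
  obtain ⟨one, hone'⟩ := fac 1 S.one_mem
  have h1 : one ≫ i = η[G] := by rw [hone', Hom.one_def, toUnit_unit, Category.id_comp]
  obtain ⟨inv, hinv⟩ := lift (i ≫ GrpObj.inv) inferInstance (by
    rintro _ ⟨z, rfl⟩
    refine mem_closure_iff.2 fun O hO hzO => ?_
    obtain ⟨c, hc, w, hw⟩ := dense ⟨(i ≫ GrpObj.inv).left ⁻¹' O,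
      hO.preimage (i ≫ GrpObj.inv).left.continuous⟩ ⟨z, hzO⟩
    refine ⟨(c ≫ i)⁻¹.left w, ?_, hmem _ (S.inv_mem hc) w⟩
    rw [show (c ≫ i)⁻¹ = c ≫ i ≫ GrpObj.inv from Category.assoc c i GrpObj.inv, Over.comp_left,
      Scheme.Hom.comp_apply]
    exact hw)
  obtain ⟨hG, hi⟩ := ActSep.exists_grpObj_of_mono i mul one inv hmul h1 hinv
  let := hG
  exact ⟨Γ, hG, i, hi, hic, smooth_of_geometricallyReduced Γ, hir⟩

end Groth.Agent.Lib.PtClosure98.Basic
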